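import Cfsg.Agent.Fi22GL78.Cert.ProductsWord_e7b
import Cfsg.Agent.CosetEnum.Fi22Simple.Final

/-!
The presented `Fi₂₂` in dimension 78 over the field with thirteen elements (generated).
-/

set_option autoImplicit false
set_option maxRecDepth 100000

namespace CfsgLib.Fi22GL78

open CfsgLib.CosetEnum Cfsg.Spor
open scoped MatrixGroups

/-- An involutive packed matrix as a unit. -/
def mkU (A : List ℕ) (h : toM A * toM A = 1) : GL (Fin 78) (ZMod 13) := ⟨toM A, toM A, h, h⟩

theorem coe_mkU (A : List ℕ) (h : toM A * toM A = 1) :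
    ((mkU A h : GL (Fin 78) (ZMod 13)) : Matrix (Fin 78) (Fin 78) (ZMod 13)) = toM A := rfl

theorem mkU_sq (A : List ℕ) (h : toM A * toM A = 1) : mkU A h * mkU A h = 1 := Units.ext h

theorem of_comm {A B C : List ℕ} (hA : toM A * toM A = 1) (hB : toM B * toM B = 1)
    (e1 : toM A * toM B = toM C) (e2 : toM B * toM A = toM C) :
    mkU A hA * (mkU B hB * (mkU A hA * mkU B hB)) = 1 := by
  have h : mkU A hA * mkU B hB = mkU B hB * mkU A hA := Units.ext (e1.trans e2.symm)
  rw [h, ← mul_assoc (mkU B hB), mkU_sq, one_mul, mkU_sq]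

theorem of_braid {A B C D : List ℕ} (hA : toM A * toM A = 1) (hB : toM B * toM B = 1)
    (e1 : toM A * toM B = toM C) (e2 : toM B * toM C = toM D) (e3 : toM C * toM A = toM D) :
    mkU A hA * (mkU B hB * (mkU A hA * (mkU B hB * (mkU A hA * mkU B hB)))) = 1 := by
  have hx := mkU_sq A hA
  have hy := mkU_sq B hB
  have h : mkU A hA * mkU B hB * mkU A hA = mkU B hB * (mkU A hA * mkU B hB) := Units.ext (by
    simp only [Units.val_mul, coe_mkU]
    rw [e1, e2, e3])
  revert hx hy h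
  generalize mkU A hA = x
  generalize mkU B hB = y
  intro hx hy h
  calc x * (y * (x * (y * (x * y)))) = x * y * x * (y * (x * y)) := by simp only [mul_assoc]
    _ = x * y * x * (x * y * x) := by rw [h]
    _ = x * (y * (x * x * (y * x))) := by simp only [mul_assoc]
    _ = 1 := by rw [hx, one_mul, ← mul_assoc y y x, hy, one_mul, hx]

theorem pow_ten {M A2 A4 A8 : List ℕ} (e1 : toM M * toM M = toM A2) (e2 : toM A2 * toM A2 = toM A4)
    (e3 : toM A4 * toM A4 = toM A8) (e4 : toM A8 * toM A2 = toM idM) : toM M ^ 10 = 1 := by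
  rw [show (10 : ℕ) = 2 * 2 * 2 + 2 from rfl, pow_add, pow_mul, pow_mul, sq (toM M), e1, sq (toM A2), e2,
    sq (toM A4), e3, e4, toM_idM]

theorem pow_nine {M A2 A4 A8 : List ℕ} (e1 : toM M * toM M = toM A2) (e2 : toM A2 * toM A2 = toM A4)
    (e3 : toM A4 * toM A4 = toM A8) (e4 : toM A8 * toM M = toM idM) : toM M ^ 9 = 1 := by
  rw [show (9 : ℕ) = 2 * 2 * 2 + 1 from rfl, pow_add, pow_mul, pow_mul, sq (toM M), e1, sq (toM A2), e2,
    sq (toM A4), e3, pow_one, e4, toM_idM]

attribute [local irreducible] toM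

theorem g0_inv : toM g0 * toM g0 = 1 := (idM_eq_g0_g0).trans toM_idM

/-- A generator in the linear group. -/
def u0 : GL (Fin 78) (ZMod 13) := mkU g0 g0_inv

theorem u0_sq : u0 * u0 = 1 := mkU_sq g0 g0_inv

theorem g1_inv : toM g1 * toM g1 = 1 := (idM_eq_g1_g1).trans toM_idM

/-- A generator in the linear group. -/
def u1 : GL (Fin 78) (ZMod 13) := mkU g1 g1_inv

theorem u1_sq : u1 * u1 = 1 := mkU_sq g1 g1_inv

theorem g2_inv : toM g2 * toM g2 = 1 := (idM_eq_g2_g2).trans toM_idM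

/-- A generator in the linear group. -/
def u2 : GL (Fin 78) (ZMod 13) := mkU g2 g2_inv

theorem u2_sq : u2 * u2 = 1 := mkU_sq g2 g2_inv

theorem g3_inv : toM g3 * toM g3 = 1 := (idM_eq_g3_g3).trans toM_idM

/-- A generator in the linear group. -/
def u3 : GL (Fin 78) (ZMod 13) := mkU g3 g3_inv

theorem u3_sq : u3 * u3 = 1 := mkU_sq g3 g3_inv

theorem g4_inv : toM g4 * toM g4 = 1 := (idM_eq_g4_g4).trans toM_idM

/-- A generator in the linear group. -/
def u4 : GL (Fin 78) (ZMod 13) := mkU g4 g4_inv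

theorem u4_sq : u4 * u4 = 1 := mkU_sq g4 g4_inv

theorem g5_inv : toM g5 * toM g5 = 1 := (idM_eq_g5_g5).trans toM_idM

/-- A generator in the linear group. -/
def u5 : GL (Fin 78) (ZMod 13) := mkU g5 g5_inv

theorem u5_sq : u5 * u5 = 1 := mkU_sq g5 g5_inv

theorem g6_inv : toM g6 * toM g6 = 1 := (idM_eq_g6_g6).trans toM_idM

/-- A generator in the linear group. -/
def u6 : GL (Fin 78) (ZMod 13) := mkU g6 g6_inv

theorem u6_sq : u6 * u6 = 1 := mkU_sq g6 g6_inv

theorem g7_inv : toM g7 * toM g7 = 1 := (idM_eq_g7_g7).trans toM_idM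

/-- A generator in the linear group. -/
def u7 : GL (Fin 78) (ZMod 13) := mkU g7 g7_inv

theorem u7_sq : u7 * u7 = 1 := mkU_sq g7 g7_inv

theorem g8_inv : toM g8 * toM g8 = 1 := (idM_eq_g8_g8).trans toM_idM

/-- A generator in the linear group. -/
def u8 : GL (Fin 78) (ZMod 13) := mkU g8 g8_inv

theorem u8_sq : u8 * u8 = 1 := mkU_sq g8 g8_inv

theorem w01 : u0 * (u1 * (u0 * (u1 * (u0 * u1)))) = 1 :=
  of_braid g0_inv g1_inv m1_eq_g0_g1 m2_eq_g1_m1 m2_eq_m1_g0

theorem w02 : u0 * (u2 * (u0 * u2)) = 1 :=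
  of_comm g0_inv g2_inv m3_eq_g0_g2 m3_eq_g2_g0

theorem w03 : u0 * (u3 * (u0 * u3)) = 1 :=
  of_comm g0_inv g3_inv m4_eq_g0_g3 m4_eq_g3_g0

theorem w04 : u0 * (u4 * (u0 * u4)) = 1 :=
  of_comm g0_inv g4_inv m5_eq_g0_g4 m5_eq_g4_g0

theorem w05 : u0 * (u5 * (u0 * u5)) = 1 :=
  of_comm g0_inv g5_inv m6_eq_g0_g5 m6_eq_g5_g0

theorem w06 : u0 * (u6 * (u0 * u6)) = 1 :=
  of_comm g0_inv g6_inv m7_eq_g0_g6 m7_eq_g6_g0

theorem w07 : u0 * (u7 * (u0 * u7)) = 1 :=
  of_comm g0_inv g7_inv m8_eq_g0_g7 m8_eq_g7_g0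

theorem w08 : u0 * (u8 * (u0 * u8)) = 1 :=
  of_comm g0_inv g8_inv m9_eq_g0_g8 m9_eq_g8_g0

theorem w12 : u1 * (u2 * (u1 * (u2 * (u1 * u2)))) = 1 :=
  of_braid g1_inv g2_inv m10_eq_g1_g2 m11_eq_g2_m10 m11_eq_m10_g1

theorem w13 : u1 * (u3 * (u1 * u3)) = 1 :=
  of_comm g1_inv g3_inv m12_eq_g1_g3 m12_eq_g3_g1

theorem w14 : u1 * (u4 * (u1 * u4)) = 1 :=
  of_comm g1_inv g4_inv m13_eq_g1_g4 m13_eq_g4_g1

theorem w15 : u1 * (u5 * (u1 * u5)) = 1 :=
  of_comm g1_inv g5_inv m14_eq_g1_g5 m14_eq_g5_g1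

theorem w16 : u1 * (u6 * (u1 * u6)) = 1 :=
  of_comm g1_inv g6_inv m15_eq_g1_g6 m15_eq_g6_g1

theorem w17 : u1 * (u7 * (u1 * u7)) = 1 :=
  of_comm g1_inv g7_inv m16_eq_g1_g7 m16_eq_g7_g1

theorem w18 : u1 * (u8 * (u1 * u8)) = 1 :=
  of_comm g1_inv g8_inv m17_eq_g1_g8 m17_eq_g8_g1

theorem w23 : u2 * (u3 * (u2 * (u3 * (u2 * u3)))) = 1 :=
  of_braid g2_inv g3_inv m18_eq_g2_g3 m19_eq_g3_m18 m19_eq_m18_g2

theorem w24 : u2 * (u4 * (u2 * u4)) = 1 :=
  of_comm g2_inv g4_inv m20_eq_g2_g4 m20_eq_g4_g2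

theorem w25 : u2 * (u5 * (u2 * u5)) = 1 :=
  of_comm g2_inv g5_inv m21_eq_g2_g5 m21_eq_g5_g2

theorem w26 : u2 * (u6 * (u2 * u6)) = 1 :=
  of_comm g2_inv g6_inv m22_eq_g2_g6 m22_eq_g6_g2

theorem w27 : u2 * (u7 * (u2 * u7)) = 1 :=
  of_comm g2_inv g7_inv m23_eq_g2_g7 m23_eq_g7_g2

theorem w28 : u2 * (u8 * (u2 * u8)) = 1 :=
  of_comm g2_inv g8_inv m24_eq_g2_g8 m24_eq_g8_g2

theorem w34 : u3 * (u4 * (u3 * (u4 * (u3 * u4)))) = 1 :=
  of_braid g3_inv g4_inv m25_eq_g3_g4 m26_eq_g4_m25 m26_eq_m25_g3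

theorem w35 : u3 * (u5 * (u3 * u5)) = 1 :=
  of_comm g3_inv g5_inv m27_eq_g3_g5 m27_eq_g5_g3

theorem w36 : u3 * (u6 * (u3 * u6)) = 1 :=
  of_comm g3_inv g6_inv m28_eq_g3_g6 m28_eq_g6_g3

theorem w37 : u3 * (u7 * (u3 * (u7 * (u3 * u7)))) = 1 :=
  of_braid g3_inv g7_inv m29_eq_g3_g7 m30_eq_g7_m29 m30_eq_m29_g3

theorem w38 : u3 * (u8 * (u3 * u8)) = 1 :=
  of_comm g3_inv g8_inv m31_eq_g3_g8 m31_eq_g8_g3

theorem w45 : u4 * (u5 * (u4 * (u5 * (u4 * u5)))) = 1 :=
  of_braid g4_inv g5_inv m32_eq_g4_g5 m33_eq_g5_m32 m33_eq_m32_g4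

theorem w46 : u4 * (u6 * (u4 * u6)) = 1 :=
  of_comm g4_inv g6_inv m34_eq_g4_g6 m34_eq_g6_g4

theorem w47 : u4 * (u7 * (u4 * u7)) = 1 :=
  of_comm g4_inv g7_inv m35_eq_g4_g7 m35_eq_g7_g4

theorem w48 : u4 * (u8 * (u4 * u8)) = 1 :=
  of_comm g4_inv g8_inv m36_eq_g4_g8 m36_eq_g8_g4

theorem w56 : u5 * (u6 * (u5 * (u6 * (u5 * u6)))) = 1 :=
  of_braid g5_inv g6_inv m37_eq_g5_g6 m38_eq_g6_m37 m38_eq_m37_g5

theorem w57 : u5 * (u7 * (u5 * u7)) = 1 :=
  of_comm g5_inv g7_inv m39_eq_g5_g7 m39_eq_g7_g5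

theorem w58 : u5 * (u8 * (u5 * u8)) = 1 :=
  of_comm g5_inv g8_inv m40_eq_g5_g8 m40_eq_g8_g5

theorem w67 : u6 * (u7 * (u6 * u7)) = 1 :=
  of_comm g6_inv g7_inv m41_eq_g6_g7 m41_eq_g7_g6

theorem w68 : u6 * (u8 * (u6 * u8)) = 1 :=
  of_comm g6_inv g8_inv m42_eq_g6_g8 m42_eq_g8_g6

theorem w78 : u7 * (u8 * (u7 * (u8 * (u7 * u8)))) = 1 :=
  of_braid g7_inv g8_inv m43_eq_g7_g8 m44_eq_g8_m43 m44_eq_m43_g7

theorem spider : (u3 * u2 * u1 * u3 * u4 * u5 * u3 * u7 * u8) ^ 10 = 1 := by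
  apply Units.ext
  rw [Units.val_pow_eq_pow_val, Units.val_one]
  simp only [Units.val_mul, u1, u2, u3, u4, u5, u7, u8, coe_mkU]
  rw [m45_eq_g3_g2, m46_eq_m45_g1, m47_eq_m46_g3, m48_eq_m47_g4, m49_eq_m48_g5, m50_eq_m49_g3, m51_eq_m50_g7, m52_eq_m51_g8]
  exact pow_ten m53_eq_m52_m52 m54_eq_m53_m53 m55_eq_m54_m54 idM_eq_m55_m53

theorem e7a : (u0 * u1 * u2 * u3 * u4 * u5 * u7) ^ 9 = 1 := by
  apply Units.ext
  rw [Units.val_pow_eq_pow_val, Units.val_one]
  simp only [Units.val_mul, u0, u1, u2, u3, u4, u5, u7, coe_mkU]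
  rw [m1_eq_g0_g1, m56_eq_m1_g2, m57_eq_m56_g3, m58_eq_m57_g4, m59_eq_m58_g5, m60_eq_m59_g7]
  exact pow_nine m61_eq_m60_m60 m62_eq_m61_m61 m63_eq_m62_m62 idM_eq_m63_m60

theorem e7b : (u1 * u2 * u3 * u4 * u5 * u6 * u7) ^ 9 = 1 := by
  apply Units.ext
  rw [Units.val_pow_eq_pow_val, Units.val_one]
  simp only [Units.val_mul, u1, u2, u3, u4, u5, u6, u7, coe_mkU]
  rw [m10_eq_g1_g2, m64_eq_m10_g3, m65_eq_m64_g4, m66_eq_m65_g5, m67_eq_m66_g6, m68_eq_m67_g7]
  exact pow_nine m69_eq_m68_m68 m70_eq_m69_m69 m71_eq_m70_m70 idM_eq_m71_m68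

attribute [local irreducible] u0 u1 u2 u3 u4 u5 u6 u7 u8

/-- The image of a letter. -/
def uu : ℕ → GL (Fin 78) (ZMod 13)
  | 0 => u0
  | 1 => u1
  | 2 => u2
  | 3 => u3
  | 4 => u4
  | 5 => u5
  | 6 => u6
  | 7 => u7
  | _ => u8

/-- The generators. -/
def toGL (a : Fi22.Gen) : GL (Fin 78) (ZMod 13) := uu (CosetEnum.Fi22.ix a)

theorem prodw_words {w : List ℕ} (hw : w ∈ CosetEnum.Fi22.setup.words) :
    prodw (toGL ∘ CosetEnum.Fi22.en) w = 1 := by
  change w ∈ CosetEnum.Fi22.words at hw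
  simp only [CosetEnum.Fi22.words, List.mem_cons, List.not_mem_nil, or_false] at hw
  rcases hw with rfl | rfl | rfl | rfl | rfl | rfl | rfl | rfl | rfl | rfl | rfl | rfl | rfl | rfl | rfl | rfl | rfl | rfl | rfl | rfl | rfl | rfl | rfl | rfl | rfl | rfl | rfl | rfl | rfl | rfl | rfl | rfl | rfl | rfl | rfl | rfl | rfl | rfl | rfl | rfl | rfl | rfl | rfl | rfl | rfl | rfl | rfl | rfl
  · simp only [prodw, List.map_cons, List.map_nil, List.prod_cons, List.prod_nil, mul_one]
    exact u0_sq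
  · simp only [prodw, List.map_cons, List.map_nil, List.prod_cons, List.prod_nil, mul_one]
    exact w01
  · simp only [prodw, List.map_cons, List.map_nil, List.prod_cons, List.prod_nil, mul_one]
    exact w02
  · simp only [prodw, List.map_cons, List.map_nil, List.prod_cons, List.prod_nil, mul_one]
    exact w03
  · simp only [prodw, List.map_cons, List.map_nil, List.prod_cons, List.prod_nil, mul_one]
    exact w04
  · simp only [prodw, List.map_cons, List.map_nil, List.prod_cons, List.prod_nil, mul_one]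
    exact w05
  · simp only [prodw, List.map_cons, List.map_nil, List.prod_cons, List.prod_nil, mul_one]
    exact w06
  · simp only [prodw, List.map_cons, List.map_nil, List.prod_cons, List.prod_nil, mul_one]
    exact w07
  · simp only [prodw, List.map_cons, List.map_nil, List.prod_cons, List.prod_nil, mul_one]
    exact w08
  · simp only [prodw, List.map_cons, List.map_nil, List.prod_cons, List.prod_nil, mul_one]
    exact u1_sq
  · simp only [prodw, List.map_cons, List.map_nil, List.prod_cons, List.prod_nil, mul_one]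
    exact w12
  · simp only [prodw, List.map_cons, List.map_nil, List.prod_cons, List.prod_nil, mul_one]
    exact w13
  · simp only [prodw, List.map_cons, List.map_nil, List.prod_cons, List.prod_nil, mul_one]
    exact w14
  · simp only [prodw, List.map_cons, List.map_nil, List.prod_cons, List.prod_nil, mul_one]
    exact w15
  · simp only [prodw, List.map_cons, List.map_nil, List.prod_cons, List.prod_nil, mul_one]
    exact w16
  · simp only [prodw, List.map_cons, List.map_nil, List.prod_cons, List.prod_nil, mul_one]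
    exact w17
  · simp only [prodw, List.map_cons, List.map_nil, List.prod_cons, List.prod_nil, mul_one]
    exact w18
  · simp only [prodw, List.map_cons, List.map_nil, List.prod_cons, List.prod_nil, mul_one]
    exact u2_sq
  · simp only [prodw, List.map_cons, List.map_nil, List.prod_cons, List.prod_nil, mul_one]
    exact w23
  · simp only [prodw, List.map_cons, List.map_nil, List.prod_cons, List.prod_nil, mul_one]
    exact w24
  · simp only [prodw, List.map_cons, List.map_nil, List.prod_cons, List.prod_nil, mul_one]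
    exact w25
  · simp only [prodw, List.map_cons, List.map_nil, List.prod_cons, List.prod_nil, mul_one]
    exact w26
  · simp only [prodw, List.map_cons, List.map_nil, List.prod_cons, List.prod_nil, mul_one]
    exact w27
  · simp only [prodw, List.map_cons, List.map_nil, List.prod_cons, List.prod_nil, mul_one]
    exact w28
  · simp only [prodw, List.map_cons, List.map_nil, List.prod_cons, List.prod_nil, mul_one]
    exact u3_sq
  · simp only [prodw, List.map_cons, List.map_nil, List.prod_cons, List.prod_nil, mul_one]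
    exact w34
  · simp only [prodw, List.map_cons, List.map_nil, List.prod_cons, List.prod_nil, mul_one]
    exact w35
  · simp only [prodw, List.map_cons, List.map_nil, List.prod_cons, List.prod_nil, mul_one]
    exact w36
  · simp only [prodw, List.map_cons, List.map_nil, List.prod_cons, List.prod_nil, mul_one]
    exact w37
  · simp only [prodw, List.map_cons, List.map_nil, List.prod_cons, List.prod_nil, mul_one]
    exact w38
  · simp only [prodw, List.map_cons, List.map_nil, List.prod_cons, List.prod_nil, mul_one]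
    exact u4_sq
  · simp only [prodw, List.map_cons, List.map_nil, List.prod_cons, List.prod_nil, mul_one]
    exact w45
  · simp only [prodw, List.map_cons, List.map_nil, List.prod_cons, List.prod_nil, mul_one]
    exact w46
  · simp only [prodw, List.map_cons, List.map_nil, List.prod_cons, List.prod_nil, mul_one]
    exact w47
  · simp only [prodw, List.map_cons, List.map_nil, List.prod_cons, List.prod_nil, mul_one]
    exact w48
  · simp only [prodw, List.map_cons, List.map_nil, List.prod_cons, List.prod_nil, mul_one]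
    exact u5_sq
  · simp only [prodw, List.map_cons, List.map_nil, List.prod_cons, List.prod_nil, mul_one]
    exact w56
  · simp only [prodw, List.map_cons, List.map_nil, List.prod_cons, List.prod_nil, mul_one]
    exact w57
  · simp only [prodw, List.map_cons, List.map_nil, List.prod_cons, List.prod_nil, mul_one]
    exact w58
  · simp only [prodw, List.map_cons, List.map_nil, List.prod_cons, List.prod_nil, mul_one]
    exact u6_sq
  · simp only [prodw, List.map_cons, List.map_nil, List.prod_cons, List.prod_nil, mul_one]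
    exact w67
  · simp only [prodw, List.map_cons, List.map_nil, List.prod_cons, List.prod_nil, mul_one]
    exact w68
  · simp only [prodw, List.map_cons, List.map_nil, List.prod_cons, List.prod_nil, mul_one]
    exact u7_sq
  · simp only [prodw, List.map_cons, List.map_nil, List.prod_cons, List.prod_nil, mul_one]
    exact w78
  · simp only [prodw, List.map_cons, List.map_nil, List.prod_cons, List.prod_nil, mul_one]
    exact u8_sq
  · show prodw _ (List.replicate 10 [3, 2, 1, 3, 4, 5, 3, 7, 8]).flatten = 1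
    rw [prodw_replicate]
    simp only [prodw, List.map_cons, List.map_nil, List.prod_cons, List.prod_nil, mul_one]
    rw [← spider]
    simp only [mul_assoc]
    rfl
  · show prodw _ (List.replicate 9 [0, 1, 2, 3, 4, 5, 7]).flatten = 1
    rw [prodw_replicate]
    simp only [prodw, List.map_cons, List.map_nil, List.prod_cons, List.prod_nil, mul_one]
    rw [← e7a]
    simp only [mul_assoc]
    rfl
  · show prodw _ (List.replicate 9 [1, 2, 3, 4, 5, 6, 7]).flatten = 1
    rw [prodw_replicate]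
    simp only [prodw, List.map_cons, List.map_nil, List.prod_cons, List.prod_nil, mul_one]
    rw [← e7b]
    simp only [mul_assoc]
    rfl

theorem toGL_sq (a : Fi22.Gen) : toGL a * toGL a = 1 := by
  cases a
  exacts [u0_sq, u1_sq, u2_sq, u3_sq, u4_sq, u5_sq, u6_sq, u7_sq, u8_sq]

theorem pow_flip {G : Type*} [Group G] {x y : G} (hx : x * x = 1) (hy : y * y = 1) {n : ℕ}
    (h : (y * x) ^ n = 1) : (x * y) ^ n = 1 := by
  have e : x * y = (y * x)⁻¹ := by
    rw [_root_.mul_inv_rev, inv_eq_of_mul_eq_one_right hx, inv_eq_of_mul_eq_one_right hy]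
  rw [e, inv_pow, h, inv_one]

theorem rels_of {K : Type} [Group K] (φ : Fi22.Gen → K) (φ_sq : ∀ a, φ a * φ a = 1)
    (prodw_words : ∀ {w : List ℕ}, w ∈ CosetEnum.Fi22.setup.words → prodw (φ ∘ CosetEnum.Fi22.en) w = 1) :
    ∀ r ∈ coxRelators Fi22.edges ∪ {r | r ∈ Fi22.extra}, FreeGroup.lift φ r = 1 := by
  rintro r (⟨a, -, b, -, rfl⟩ | hr)
  · have hp : ∀ a b, CosetEnum.Fi22.ix a ≤ CosetEnum.Fi22.ix b →
        (φ a * φ b) ^ coxLabel Fi22.edges a b = 1 := by
      intro a b hab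
      have := prodw_words (w := (List.replicate (coxLabel Fi22.edges a b)
          [CosetEnum.Fi22.ix a, CosetEnum.Fi22.ix b]).flatten) (by
        rw [CosetEnum.Fi22.setup.words_eq]
        refine List.mem_append_left _ (mem_coxWords.mpr ⟨CosetEnum.Fi22.ix a, CosetEnum.Fi22.ix b,
          CosetEnum.Fi22.setup.ix_lt a, CosetEnum.Fi22.setup.ix_lt b, hab, ?_⟩)
        show (List.replicate (coxLabel Fi22.edges (CosetEnum.Fi22.en _) (CosetEnum.Fi22.en _)) _).flatten = _
        rw [show CosetEnum.Fi22.en (CosetEnum.Fi22.ix a) = a from CosetEnum.Fi22.setup.en_ix a,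
          show CosetEnum.Fi22.en (CosetEnum.Fi22.ix b) = b from CosetEnum.Fi22.setup.en_ix b])
      rw [prodw_replicate] at this
      simpa [prodw, show CosetEnum.Fi22.en (CosetEnum.Fi22.ix a) = a from CosetEnum.Fi22.setup.en_ix a,
        show CosetEnum.Fi22.en (CosetEnum.Fi22.ix b) = b from CosetEnum.Fi22.setup.en_ix b] using this
    rw [map_pow, map_mul, FreeGroup.lift_apply_of, FreeGroup.lift_apply_of]
    rcases le_total (CosetEnum.Fi22.ix a) (CosetEnum.Fi22.ix b) with h | h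
    · exact hp a b h
    · have := hp b a h
      rw [coxLabel_symm] at this
      exact pow_flip (φ_sq a) (φ_sq b) this
  · have hm : FreeGroup.lift φ r ∈ Fi22.extra.map (FreeGroup.lift φ) := List.mem_map_of_mem hr
    rw [CosetEnum.Fi22.exW_eq _ φ φ_sq] at hm
    obtain ⟨w, hw, hw'⟩ := List.mem_map.1 hm
    rw [← hw']
    refine prodw_words ?_
    rw [CosetEnum.Fi22.setup.words_eq]
    exact List.mem_append_right _ hw

theorem rels_ok : ∀ r ∈ coxRelators Fi22.edges ∪ {r | r ∈ Fi22.extra}, FreeGroup.lift toGL r = 1 :=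
  rels_of toGL toGL_sq prodw_words

theorem u0_ne_one : u0 ≠ 1 := by
  intro h
  have h1 := congrArg (Units.val : GL (Fin 78) (ZMod 13) → Matrix (Fin 78) (Fin 78) (ZMod 13)) h
  rw [u0, coe_mkU, Units.val_one] at h1
  rw [← toM_idM] at h1
  have h2 := congrFun (congrFun h1 0) 0
  revert h2
  decide +kernel

/-- The embedding. -/
theorem exists_injective : ∃ f : Cfsg.Spor.Fi22 →* GL (Fin 78) (ZMod 13), Function.Injective f := by
  refine ⟨PresentedGroup.toGroup rels_ok, ?_⟩
  haveI := CosetEnum.Fi22.isSimpleGroup_Fi22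
  rcases (PresentedGroup.toGroup rels_ok).normal_ker.eq_bot_or_eq_top with h | h
  · exact (MonoidHom.ker_eq_bot_iff _).1 h
  · refine absurd ?_ u0_ne_one
    have h1 : (PresentedGroup.of Fi22.Gen.a : Cfsg.Spor.Fi22) ∈ (PresentedGroup.toGroup rels_ok).ker :=
      h ▸ Subgroup.mem_top _
    rw [MonoidHom.mem_ker, PresentedGroup.toGroup.of, toGL] at h1
    exact h1

end CfsgLib.Fi22GL78
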