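import Cfsg.Agent.CosetEnum.Engine
import Mathlib.LinearAlgebra.Matrix.GeneralLinearGroup.Defs
import Mathlib.Data.ZMod.Basic
import Mathlib.Algebra.BigOperators.Fin

/-!
Products of square matrices of size 78 over `ZMod 13` checked on packed rows (14 bits per entry).
-/

set_option autoImplicit false

namespace CfsgLib.Fi22GL78

open CfsgLib.CosetEnum Finset

/-- The entry in a slot. -/
def dig (n j : ℕ) : ℕ := Nat.land (Nat.shiftRight n (Nat.mul 14 j)) 16383

theorem dig_eq (n j : ℕ) : dig n j = n / 16384 ^ j % 16384 := by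
  show (n >>> (14 * j)) &&& 16383 = _
  rw [Nat.shiftRight_eq_div_pow, show (16383 : ℕ) = 2 ^ 14 - 1 from rfl,
    Nat.and_two_pow_sub_one_eq_mod, show (16384 : ℕ) = 2 ^ 14 from rfl, pow_mul]

/-- The number with given slots. -/
def pack (f : ℕ → ℕ) : ℕ → ℕ
  | 0 => 0
  | k + 1 => f 0 + 16384 * pack (fun i => f (i + 1)) k

theorem dig_pack : ∀ (k : ℕ) (f : ℕ → ℕ), (∀ i < k, f i < 16384) → ∀ j < k,
    dig (pack f k) j = f j := by
  intro k
  induction k with
  | zero => intro f _ j hj; exact absurd hj (by omega)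
  | succ k ih =>
    intro f hf j hj
    rw [dig_eq, pack]
    cases j with
    | zero => simp [Nat.add_mul_mod_self_left, Nat.mod_eq_of_lt (hf 0 (by omega))]
    | succ j =>
      rw [pow_succ', ← Nat.div_div_eq_div_mul, Nat.add_mul_div_left _ _ (by norm_num),
        Nat.div_eq_of_lt (hf 0 (by omega)), zero_add, ← dig_eq]
      exact ih (fun i => f (i + 1)) (fun i hi => hf (i + 1) (by omega)) j (by omega)

theorem pack_dig : ∀ (k n : ℕ), n < 16384 ^ k → pack (dig n) k = n := by
  intro k
  induction k with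
  | zero => intro n h; simp [pack] at *; omega
  | succ k ih =>
    intro n h
    rw [pow_succ'] at h
    have e : (fun i => dig n (i + 1)) = dig (n / 16384) := by
      funext i; rw [dig_eq, dig_eq, pow_succ', Nat.div_div_eq_div_mul]
    rw [pack, e, ih _ (Nat.div_lt_of_lt_mul h), dig_eq, pow_zero, Nat.div_one]
    exact Nat.mod_add_div n 16384

theorem pack_sum {ι : Type*} (s : Finset ι) (a : ι → ℕ) (f : ι → ℕ → ℕ) :
    ∀ k : ℕ, pack (fun i => ∑ j ∈ s, a j * f j i) k = ∑ j ∈ s, a j * pack (f j) k := by
  intro k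
  induction k generalizing f with
  | zero => simp [pack]
  | succ k ih =>
    rw [pack, ih fun j i => f j (i + 1), Finset.mul_sum, ← Finset.sum_add_distrib]
    exact Finset.sum_congr rfl fun j _ => by rw [pack]; ring

/-- The combination of packed rows with the slots of `a` as coefficients. -/
def comb : List ℕ → ℕ → ℕ → ℕ
  | [], _, _ => 0
  | b :: bs, a, j => dig a j * b + comb bs a (j + 1)

theorem comb_eq : ∀ (B : List ℕ) (a j : ℕ),
    comb B a j = ∑ i ∈ range B.length, dig a (j + i) * B.getD i 0 := by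
  intro B
  induction B with
  | nil => intro a j; simp [comb]
  | cons b bs ih =>
    intro a j
    rw [comb, ih, List.length_cons, Finset.sum_range_succ', add_comm]
    simp [Nat.add_assoc, Nat.add_comm 1]

/-- A matrix given by packed rows has reduced entries. -/
def goodM (A : List ℕ) : Bool :=
  Nat.beq A.length 78 && A.all fun n => Nat.blt n (2 ^ 1092) &&
    (List.range 78).all fun j => Nat.blt (dig n j) 13

/-- The check of a product. -/
def mulOK (A B C : List ℕ) : Bool :=
  (List.range 78).all fun i => force (comb B (A.getD i 0) 0) fun s =>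
    force (C.getD i 0) fun c => (List.range 78).all fun k => Nat.beq (dig s k % 13) (dig c k)

/-- The matrix with packed rows. -/
def toM (A : List ℕ) : Matrix (Fin 78) (Fin 78) (ZMod 13) :=
  Matrix.of fun i j => (dig (A.getD i.val 0) j.val : ZMod 13)

theorem goodM_spec {A : List ℕ} (h : goodM A = true) : A.length = 78 ∧ ∀ i < 78,
    A.getD i 0 < 16384 ^ 78 ∧ ∀ j < 78, dig (A.getD i 0) j ≤ 12 := by
  simp only [goodM, Bool.and_eq_true, List.all_eq_true, Nat.blt_eq] at h
  have hl := Nat.eq_of_beq_eq_true h.1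
  refine ⟨hl, fun i hi => ?_⟩
  have hm : A.getD i 0 ∈ A := by
    rw [List.getD_eq_getElem _ _ (by omega)]
    exact List.getElem_mem _
  obtain ⟨h1, h2⟩ := h.2 _ hm
  refine ⟨?_, fun j hj => by have := h2 j (List.mem_range.2 hj); omega⟩
  rwa [show (16384 : ℕ) = 2 ^ 14 from rfl, ← pow_mul, show 14 * 78 = 1092 from rfl]

theorem toM_mul {A B C : List ℕ} (hA : goodM A = true) (hB : goodM B = true)
    (h : mulOK A B C = true) : toM A * toM B = toM C := by
  obtain ⟨-, hA⟩ := goodM_spec hA
  obtain ⟨hlB, hB⟩ := goodM_spec hB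
  ext i k
  have hi := List.all_eq_true.1 h i.val (List.mem_range.2 i.isLt)
  rw [force_eq, force_eq] at hi
  have hk := Nat.eq_of_beq_eq_true (List.all_eq_true.1 hi k.val (List.mem_range.2 k.isLt))
  set a := A.getD i.val 0 with ha
  have hs : comb B a 0 =
      pack (fun k => ∑ j ∈ range 78, dig a j * dig (B.getD j 0) k) 78 := by
    rw [pack_sum, comb_eq, hlB]
    exact Finset.sum_congr rfl fun j hj => by
      rw [Nat.zero_add, pack_dig 78 _ (hB j (Finset.mem_range.1 hj)).1]
  have hb : ∀ k < 78, ∑ j ∈ range 78, dig a j * dig (B.getD j 0) k < 16384 := by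
    intro k hk
    refine lt_of_le_of_lt (Finset.sum_le_card_nsmul _ _ 144 fun j hj => ?_) (by norm_num)
    exact Nat.mul_le_mul ((hA i.val i.isLt).2 j (Finset.mem_range.1 hj))
      ((hB j (Finset.mem_range.1 hj)).2 k hk)
  rw [hs, dig_pack 78 _ hb k.val k.isLt] at hk
  simp only [toM, Matrix.mul_apply, Matrix.of_apply, ← ha]
  rw [← hk, ZMod.natCast_mod, Nat.cast_sum,
    Fin.sum_univ_eq_sum_range fun j => ((dig a j : ℕ) : ZMod 13) * ((dig (B.getD j 0) k.val : ℕ) : ZMod 13)]
  exact Finset.sum_congr rfl fun j _ => by push_cast; ring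

/-- The identity matrix, packed. -/
def idM : List ℕ := (List.range 78).map fun i => 2 ^ (14 * i)

/-- The check that a packed matrix is the identity. -/
def isId (A : List ℕ) : Bool :=
  (List.range 78).all fun i => (List.range 78).all fun j =>
    Nat.beq (dig (A.getD i 0) j) (bif Nat.beq i j then 1 else 0)

theorem toM_idM : toM idM = 1 := by
  have h : isId idM = true := by decide +kernel
  ext i j
  have := Nat.eq_of_beq_eq_true (List.all_eq_true.1 (List.all_eq_true.1 h i.val
    (List.mem_range.2 i.isLt)) j.val (List.mem_range.2 j.isLt))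
  simp only [toM, Matrix.of_apply, this, Matrix.one_apply]
  rcases eq_or_ne i j with rfl | hij
  · simp
  · cases e : Nat.beq i.val j.val
    · simp [hij]
    · exact absurd (Fin.ext (Nat.eq_of_beq_eq_true e)) hij

end CfsgLib.Fi22GL78
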